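import Cfsg.Agent.Lib.CosetEnum.HSM.Check0
import Cfsg.Agent.Lib.CosetEnum.HSM.Check1
import Cfsg.Agent.Lib.CosetEnum.HSM.Check2
import Cfsg.Agent.Lib.CosetEnum.HSM.Check3
import Cfsg.Agent.Lib.CosetEnum.HSM.Check4
import Cfsg.Agent.Lib.CosetEnum.HSM.Check5
import Cfsg.Agent.Lib.CosetEnum.HSM.Data

/-! Checks of the certificate. -/

set_option autoImplicit false
set_option maxRecDepth 20000
set_option Elab.async false

namespace Cfsg.Agent.Lib.CosetEnum.HSM

open Cfsg.Agent.Lib.CosetEnum

theorem defs_ok : defsOK data 11707 = true := by decide +kernel

theorem edges_part0 : allFrom 0 5000 (edgeAt data 45810 10752 table vert edge) = true := by decide +kernel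

theorem edges_part1 : allFrom 5000 5000 (edgeAt data 45810 10752 table vert edge) = true := by decide +kernel

theorem edges_part2 : allFrom 10000 752 (edgeAt data 45810 10752 table vert edge) = true := by decide +kernel

theorem edges_ok : edgesOK data 45810 10752 table vert edge = true :=
  (allBelow_add (allBelow_add (allBelow_add (rfl : allBelow 0 (edgeAt data 45810 10752 table vert edge) = true) edges_part0
    (by omega : 0 + 5000 = 5000)) edges_part1
    (by omega : 5000 + 5000 = 10000)) edges_part2
    (by omega : 10000 + 752 = 10752))

theorem perm_part0 : allFrom 0 7500 (permAt letters.K letters.IV 10752 table) = true := by decide +kernel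

theorem perm_part1 : allFrom 7500 3252 (permAt letters.K letters.IV 10752 table) = true := by decide +kernel

theorem perm_ok : permOK letters.K letters.IV 10752 table = true :=
  (allBelow_add (allBelow_add (rfl : allBelow 0 (permAt letters.K letters.IV 10752 table) = true) perm_part0
    (by omega : 0 + 7500 = 7500)) perm_part1
    (by omega : 7500 + 3252 = 10752))

theorem rels_part0 : allFrom 0 2631 (relAt letters.K table letters.RL) = true := by decide +kernel

theorem rels_part1 : allFrom 2631 2631 (relAt letters.K table letters.RL) = true := by decide +kernel

theorem rels_part2 : allFrom 5262 2631 (relAt letters.K table letters.RL) = true := by decide +kernel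

theorem rels_part3 : allFrom 7893 2631 (relAt letters.K table letters.RL) = true := by decide +kernel

theorem rels_part4 : allFrom 10524 228 (relAt letters.K table letters.RL) = true := by decide +kernel

theorem rels_ok : relsOK letters.K 10752 table letters.RL = true :=
  (allBelow_add (allBelow_add (allBelow_add (allBelow_add (allBelow_add (rfl : allBelow 0 (relAt letters.K table letters.RL) = true) rels_part0
    (by omega : 0 + 2631 = 2631)) rels_part1
    (by omega : 2631 + 2631 = 5262)) rels_part2
    (by omega : 5262 + 2631 = 7893)) rels_part3
    (by omega : 7893 + 2631 = 10524)) rels_part4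
    (by omega : 10524 + 228 = 10752))

theorem reach_ok : reachOK letters.K 10752 table parent = true := by decide +kernel

theorem letters_ok : letters.OK := by
  refine ⟨by decide +kernel, by decide +kernel, ?_, ?_, ?_⟩ <;> decide +kernel

theorem table_ok : TableOK letters 10752 table where
  col := by decide +kernel
  symcol := by decide +kernel
  invol := by decide +kernel
  perm := perm_ok
  rel l hl i hi := relsOK_rel rels_ok hi hl

theorem sameRels : SameRels letters pres := Cfsg.Agent.Lib.ExactCover.sameRels _ _ _

/-- The enumerated index and action. -/
theorem enum : Enumerated letters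
    pres
    (subOf letters _ subWords) 10752 table :=
  enumerated letters _
    sameRels
    letters_ok 10752 table parent (by omega) table_ok reach_ok data 11707 45810 rfl subWords
    (by decide +kernel)
    (fun φ hφ => hφ ▸ Letters.valid sameRels.1 letters_ok table_ok.col rfl rfl subWords (by decide +kernel) rfl rfl
      (by decide +kernel))
    (fun φ hV => (chunks_sound hV part21 part21_ok.1 part21_ok.2
      (chunks_sound hV part20 part20_ok.1 part20_ok.2
      (chunks_sound hV part19 part19_ok.1 part19_ok.2
      (chunks_sound hV part18 part18_ok.1 part18_ok.2
      (chunks_sound hV part17 part17_ok.1 part17_ok.2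
      (chunks_sound hV part16 part16_ok.1 part16_ok.2
      (chunks_sound hV part15 part15_ok.1 part15_ok.2
      (chunks_sound hV part14 part14_ok.1 part14_ok.2
      (chunks_sound hV part13 part13_ok.1 part13_ok.2
      (chunks_sound hV part12 part12_ok.1 part12_ok.2
      (chunks_sound hV part11 part11_ok.1 part11_ok.2
      (chunks_sound hV part10 part10_ok.1 part10_ok.2
      (chunks_sound hV part9 part9_ok.1 part9_ok.2
      (chunks_sound hV part8 part8_ok.1 part8_ok.2
      (chunks_sound hV part7 part7_ok.1 part7_ok.2
      (chunks_sound hV part6 part6_ok.1 part6_ok.2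
      (chunks_sound hV part5 part5_ok.1 part5_ok.2
      (chunks_sound hV part4 part4_ok.1 part4_ok.2
      (chunks_sound hV part3 part3_ok.1 part3_ok.2
      (chunks_sound hV part2 part2_ok.1 part2_ok.2
      (chunks_sound hV part1 part1_ok.1 part1_ok.2
      (chunks_sound hV part0 part0_ok.1 part0_ok.2
      (fun i hi => good_defs defs_ok hi))))))))))))))))))))))))
    vert edge (by decide +kernel) edges_ok

end Cfsg.Agent.Lib.CosetEnum.HSM
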